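import Groth.Agent.EGA43.UnibranchOpen.Integral
import Groth.Agent.EGA43.Unibranch.Open
import Groth.Agent.EGA43.Unibranch.AffineSpace
import Groth.Agent.EGA43.UnivOpen.AffineSpace
import Groth.Agent.EGA43.Chevalley.Chart
import Groth.Agent.EGA43.Chevalley.Open
import Groth.Agent.EGA43.Chevalley.SetDim
import Groth.Agent.EGA43.DvrCrit.OpenFlat
import Groth.Agent.EGA43.FibDepth.FibreDim

/-!
# Chevalley's criterion for irreducible schemes without Noetherian hypotheses (EGA IV 14.4.4)
-/

set_option autoImplicit false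
set_option backward.isDefEq.respectTransparency false
set_option linter.style.haveILetI false

universe u

open CategoryTheory CategoryTheory.Limits AlgebraicGeometry TopologicalSpace

namespace Groth.Agent.EGA43.UnibranchOpen

open Groth.Agent FlatMorWeight

/-- Quasi-finite algebras without zero divisors dominating an everywhere geometrically unibranch ring have open
spectrum maps. -/
theorem isOpenMap_comap_of_quasiFinite {A B : Type u} [CommRing A] [CommRing B] [IsDomain B] [Algebra A B]
    [Algebra.FiniteType A B] [Algebra.QuasiFinite A B] (hker : RingHom.ker (algebraMap A B) = nilradical A)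
    (hu : ∀ p : PrimeSpectrum A, CAlg2.IsGeomUnibranch (Localization.AtPrime p.asIdeal)) :
    IsOpenMap (PrimeSpectrum.comap (algebraMap A B)) := by
  intro W hW
  refine isOpen_iff_mem_nhds.2 ?_
  rintro _ ⟨q, hqW, rfl⟩
  obtain ⟨r, hr, hbij⟩ := Algebra.ZariskisMainProperty.of_finiteType_of_weaklyQuasiFiniteAt (R := A) q.asIdeal
  let C := integralClosure A B
  haveI : Algebra.IsIntegral A C := inferInstance
  have hkerC : RingHom.ker (algebraMap A C) = nilradical A := by
    rw [← hker]; ext a; simp [RingHom.mem_ker, ← Subalgebra.coe_eq_zero]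
  let j : C →+* Localization.Away (C.val.toRingHom r) := (algebraMap B _).comp C.val.toRingHom
  have hj : Topology.IsOpenEmbedding (PrimeSpectrum.comap j) := by
    let e := RingEquiv.ofBijective _ hbij
    have he : j = e.toRingHom.comp (algebraMap C (Localization.Away r)) := RingHom.ext fun z => by
      refine Eq.symm ?_
      show Localization.awayMap C.val.toRingHom r _ = _
      exact IsLocalization.map_eq _ z
    rw [he, show PrimeSpectrum.comap (e.toRingHom.comp (algebraMap C (Localization.Away r))) =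
        PrimeSpectrum.comap (algebraMap C (Localization.Away r)) ∘ PrimeSpectrum.comap e.toRingHom from
      funext fun Q => PrimeSpectrum.comap_comp_apply _ _ Q]
    exact (PrimeSpectrum.localization_away_isOpenEmbedding _ r).comp
      (PrimeSpectrum.homeomorphOfRingEquiv e).symm.isOpenEmbedding
  let Br := Localization.Away (C.val.toRingHom r)
  obtain ⟨q', hq'⟩ := (PrimeSpectrum.localization_away_comap_range Br (C.val.toRingHom r)).ge
    (show q ∈ PrimeSpectrum.basicOpen (C.val.toRingHom r) from hr)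
  have ho : IsOpen (PrimeSpectrum.comap (algebraMap A C) ''
      (PrimeSpectrum.comap j '' (PrimeSpectrum.comap (algebraMap B Br) ⁻¹' W))) :=
    isOpenMap_comap_of_unibranch hkerC hu _ (hj.isOpenMap _ (hW.preimage (PrimeSpectrum.continuous_comap _)))
  have hc : ∀ Q, PrimeSpectrum.comap (algebraMap A C) (PrimeSpectrum.comap j Q) =
      PrimeSpectrum.comap (algebraMap A B) (PrimeSpectrum.comap (algebraMap B Br) Q) := fun Q => rfl
  refine Filter.mem_of_superset (ho.mem_nhds ⟨_, ⟨q', show PrimeSpectrum.comap (algebraMap B Br) q' ∈ W by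
    rw [hq']; exact hqW, rfl⟩, (hc q').trans (congrArg _ hq')⟩) ?_
  rintro _ ⟨_, ⟨Q, hQ, rfl⟩, rfl⟩
  exact ⟨_, hQ, (hc Q).symm⟩

variable {X Y : Scheme.{u}}

/-- A dominant locally quasi-finite morphism of irreducible schemes, with everywhere geometrically unibranch
target, is open. -/
theorem isOpenMap_of_quasiFinite [IrreducibleSpace X] [IrreducibleSpace Y]
    (hY : ∀ y : Y, CAlg2.IsGeomUnibranch (Y.presheaf.stalk y)) (f : X ⟶ Y) [LocallyOfFiniteType f]
    [LocallyQuasiFinite f] [IsDominant f] : IsOpenMap f.base := by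
  intro W hW
  refine isOpen_iff_mem_nhds.2 ?_
  rintro _ ⟨x, hxW, rfl⟩
  obtain ⟨V, hV, hxV, -⟩ := exists_isAffineOpen_mem_and_subset (x := f x) (U := ⊤) trivial
  obtain ⟨U, hU, hxU, e⟩ := exists_isAffineOpen_mem_and_subset (x := x) (U := f ⁻¹ᵁ V) hxV
  have hηU : genericPoint X ∈ U := (genericPoint_specializes x).mem_open U.isOpen hxU
  algebraize [(f.appLE V U e).hom]
  haveI : Algebra.FiniteType Γ(Y, V) Γ(X, U) := f.finiteType_appLE hV hU e
  haveI : Algebra.QuasiFinite Γ(Y, V) Γ(X, U) := LocallyQuasiFinite.quasiFinite_appLE (f := f) hV hU e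
  let P := nilradical Γ(X, U)
  haveI : P.IsPrime := by
    show (nilradical Γ(X, U)).IsPrime
    rw [← EGA43.Unibranch.primeIdealOf_genericPoint hU hηU]
    infer_instance
  have hPc : P.comap (algebraMap Γ(Y, V) Γ(X, U)) = nilradical Γ(Y, V) := by
    show (nilradical _).comap _ = _
    rw [← EGA43.Unibranch.primeIdealOf_genericPoint hU hηU, RingHom.algebraMap_toAlgebra,
      ← EGA43.Unibranch.primeIdealOf_genericPoint hV ((genericPoint_specializes _).mem_open V.isOpen hxV)]
    refine (congrArg PrimeSpectrum.asIdeal (IsAffineOpen.comap_primeIdealOf_appLE V hV U hU e hηU)).trans ?_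
    exact congrArg (fun w => (hV.primeIdealOf w).asIdeal) (Subtype.ext (EGA43.Unibranch.map_genericPoint_of_isDominant f))
  let B := Γ(X, U) ⧸ P
  have hker : RingHom.ker (algebraMap Γ(Y, V) B) = nilradical Γ(Y, V) := by
    rw [← hPc, IsScalarTower.algebraMap_eq Γ(Y, V) Γ(X, U) B, ← RingHom.comap_ker]
    congr 1
    exact Ideal.mk_ker
  haveI : Algebra.QuasiFinite Γ(Y, V) B :=
    Algebra.QuasiFinite.of_surjective_algHom (Ideal.Quotient.mkₐ Γ(Y, V) P) Ideal.Quotient.mk_surjective
  have hu : ∀ p : PrimeSpectrum Γ(Y, V), CAlg2.IsGeomUnibranch (Localization.AtPrime p.asIdeal) := fun p => by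
    have hm : hV.fromSpec p ∈ V := hV.range_fromSpec.le ⟨p, rfl⟩
    let _ := (Y.presheaf.germ V (hV.fromSpec p) hm).hom.toAlgebra
    haveI := hV.isLocalization_stalk ⟨hV.fromSpec p, hm⟩
    have hp : (hV.primeIdealOf ⟨hV.fromSpec p, hm⟩).asIdeal = p.asIdeal :=
      congrArg PrimeSpectrum.asIdeal (hV.fromSpec.isOpenEmbedding.injective (hV.fromSpec_primeIdealOf _))
    haveI : IsLocalization.AtPrime (Y.presheaf.stalk (hV.fromSpec p)) p.asIdeal := by
      have h1 : p.asIdeal.primeCompl = (hV.primeIdealOf ⟨hV.fromSpec p, hm⟩).asIdeal.primeCompl := by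
        ext a; exact not_congr (by rw [hp])
      show IsLocalization p.asIdeal.primeCompl _
      rw [h1]; infer_instance
    exact EGA43.Unibranch.isGeomUnibranch_of_ringEquiv
      (IsLocalization.algEquiv p.asIdeal.primeCompl (Y.presheaf.stalk (hV.fromSpec p))
        (Localization.AtPrime p.asIdeal)).toRingEquiv (hY _)
  let π : PrimeSpectrum B → X := fun Q => hU.fromSpec (PrimeSpectrum.comap (Ideal.Quotient.mk P) Q)
  have hπc : Continuous π := hU.fromSpec.continuous.comp (PrimeSpectrum.continuous_comap _)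
  obtain ⟨q, hq⟩ : hU.primeIdealOf ⟨x, hxU⟩ ∈ Set.range (PrimeSpectrum.comap (Ideal.Quotient.mk P)) := by
    rw [range_comap_of_surjective _ _ Ideal.Quotient.mk_surjective, Ideal.mk_ker]
    exact nilradical_le_prime _
  have hqx : π q = x := by
    show hU.fromSpec (PrimeSpectrum.comap (Ideal.Quotient.mk P) q) = x
    rw [hq, hU.fromSpec_primeIdealOf]
  have hfac : ∀ Q, f (π Q) = hV.fromSpec (PrimeSpectrum.comap (algebraMap Γ(Y, V) B) Q) := fun Q => by
    rw [IsScalarTower.algebraMap_eq Γ(Y, V) Γ(X, U) B, PrimeSpectrum.comap_comp_apply,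
      RingHom.algebraMap_toAlgebra]
    exact (congrArg (fun φ : Spec Γ(X, U) ⟶ Y => φ (PrimeSpectrum.comap (Ideal.Quotient.mk P) Q))
      (IsAffineOpen.SpecMap_appLE_fromSpec f hV hU e)).symm
  have ho := hV.fromSpec.isOpenEmbedding.isOpenMap _
    (isOpenMap_comap_of_quasiFinite hker hu _ (hW.preimage hπc))
  refine Filter.mem_of_superset (ho.mem_nhds ⟨_, ⟨q, show π q ∈ W by rw [hqx]; exact hxW, rfl⟩,
    (hfac q).symm.trans (congrArg _ hqx)⟩) ?_
  rintro _ ⟨_, ⟨Q, hQ, rfl⟩, rfl⟩
  exact ⟨π Q, hQ, hfac Q⟩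

theorem universallyOpen_over_affineSpace (e : ℕ) (Y : Scheme.{u}) :
    UniversallyOpen (𝔸(ULift.{u} (Fin e); Y) ↘ Y) := by
  refine ⟨fun {A B} f₁ i₂ f' hc => ?_⟩
  have hpb := (AffineSpace.isPullback_map (n := ULift.{u} (Fin e)) i₂)
  have he : f' = (hc.flip.isoIsPullback _ _ hpb).hom ≫ (𝔸(ULift.{u} (Fin e); B) ↘ B) :=
    (hc.flip.isoIsPullback_hom_snd _ _ hpb).symm
  show IsOpenMap f'.base
  rw [he, Scheme.Hom.comp_base]
  exact (AffineSpace.isOpenMap_over (n := ULift.{u} (Fin e)) B).comp (hc.flip.isoIsPullback _ _ hpb).hom.homeomorph.isOpenMap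

/-- The same, universally. -/
theorem isUnivOpenAt_of_quasiFinite [IrreducibleSpace X] [IrreducibleSpace Y]
    (hY : ∀ y : Y, CAlg2.IsGeomUnibranch (Y.presheaf.stalk y)) (f : X ⟶ Y) [LocallyOfFiniteType f]
    [LocallyQuasiFinite f] [IsDominant f] (x : X) : EGA43.IsUnivOpenAt f x := by
  refine UnivOpen.isUnivOpenAt_of_affineSpace f x fun n z _ => ?_
  let ι : Type u := ULift.{u} (Fin n)
  let g := pullback.snd f (𝔸(ι; Y) ↘ Y)
  let φ := (AffineSpace.isPullback_map (n := ι) f).flip.isoPullback.hom.homeomorph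
  haveI : Nonempty ↥(pullback f (𝔸(ι; Y) ↘ Y)) := ⟨φ (genericPoint _)⟩
  haveI : IrreducibleSpace ↥(pullback f (𝔸(ι; Y) ↘ Y)) := φ.symm.isOpenEmbedding.irreducibleSpace
  haveI : LocallyOfFiniteType g := MorphismProperty.pullback_snd _ _ inferInstance
  haveI : LocallyQuasiFinite g := MorphismProperty.pullback_snd (P := @LocallyQuasiFinite) _ _ inferInstance
  haveI : IsDominant g := ⟨by
    show Dense (Set.range g)
    rw [Scheme.Pullback.range_snd]
    exact f.denseRange.preimage (AffineSpace.isOpenMap_over Y)⟩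
  intro U hU
  exact IsOpenMap.image_mem_nhds
    (isOpenMap_of_quasiFinite (fun y => EGA43.Unibranch.isGeomUnibranch_stalk_affineSpace n y (hY _)) g) hU

/-- EGA IV 14.4.4 for irreducible schemes. -/
theorem universallyOpen_of_fibreDim_const [IrreducibleSpace X] [IrreducibleSpace Y]
    (hY : ∀ y : Y, CAlg2.IsGeomUnibranch (Y.presheaf.stalk y)) (f : X ⟶ Y) [LocallyOfFiniteType f] [IsDominant f]
    (h : ∀ x : X, FlatMor.fibreDimAt f x = topologicalKrullDim ↥(f.fiber (f.base (genericPoint X)))) :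
    UniversallyOpen f := by
  have hgenY : f (genericPoint X) = genericPoint Y := EGA43.Unibranch.map_genericPoint_of_isDominant f
  have hmax : IsMaximalPt (f (genericPoint X)) := fun v hv =>
    (hv.antisymm (hgenY ▸ genericPoint_specializes v)).eq
  have hdim : topologicalKrullDim ↥(f.fiber (f.base (genericPoint X))) =
      (DimLib.trdegHom (f.residueFieldMap (genericPoint X)).hom : WithBot ℕ∞) := by
    rw [← Chevalley.topologicalKrullDim_closure_inter_fibre f (genericPoint X),
      (genericPoint_spec X).def]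
    refine (IsHomeomorph.topologicalKrullDim_eq (f.fiberHomeo _) (f.fiberHomeo _).isHomeomorph).trans ?_
    exact IsHomeomorph.topologicalKrullDim_eq (Homeomorph.setCongr (Set.univ_inter _).symm)
      (Homeomorph.setCongr (Set.univ_inter _).symm).isHomeomorph
  have hpt : ∀ x : X, EGA43.IsUnivOpenAt f x := fun x => by
    obtain ⟨V, hV, hxV, -⟩ := exists_isAffineOpen_mem_and_subset (x := f x) (U := ⊤) (Set.mem_univ _)
    obtain ⟨U, hU, hxU, e'⟩ := exists_isAffineOpen_mem_and_subset (x := x) (U := f ⁻¹ᵁ V) hxV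
    have e : U ≤ f ⁻¹ᵁ V := e'
    have hξU : genericPoint X ∈ U := (genericPoint_specializes x).mem_open U.isOpen hxU
    algebraize [(f.appLE V U e).hom]
    haveI : Algebra.FiniteType Γ(Y, V) Γ(X, U) := f.finiteType_appLE hV hU e
    have hc : ∀ w (hw : w ∈ U), (hU.primeIdealOf ⟨w, hw⟩).asIdeal.comap (algebraMap Γ(Y, V) Γ(X, U)) =
        (hV.primeIdealOf ⟨f w, e hw⟩).asIdeal := fun w hw =>
      EGA43.FibDepth.comap_primeIdealOf f hV hU e hw
    obtain ⟨n, B, _, _, φ, ψ, hcomp, hft, hqf, hmin, q₀, hq₀⟩ := Chevalley.exists_chart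
      (hU.primeIdealOf ⟨genericPoint X, hξU⟩) (hU.primeIdealOf ⟨x, hxU⟩)
      ((primeIdealOf_le_iff hU _ _).2 (genericPoint_specializes x))
      (by rw [hc _ hξU]; exact mem_minimalPrimes_primeIdealOf hV _ hmax) fun q' _ _ _ => by
        have hw : hU.fromSpec q' ∈ U := hU.range_fromSpec.le ⟨q', rfl⟩
        have hq : hU.primeIdealOf ⟨_, hw⟩ = q' :=
          hU.fromSpec.isOpenEmbedding.injective (hU.fromSpec_primeIdealOf ⟨_, hw⟩)
        rw [← hq, ← EGA43.FibDepth.trdegHom_residueFieldMap f hV hU e hw,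
          ← EGA43.FibDepth.trdegHom_residueFieldMap f hV hU e hξU]
        have h1 := Chevalley.le_fibreDimAt f (hU.fromSpec q')
        rw [h, hdim] at h1
        exact_mod_cast h1
    let P := CommRingCat.of (MvPolynomial (ULift.{u} (Fin n)) Γ(Y, V))
    haveI : IsOpenImmersion (AffineSpace.map (ULift.{u} (Fin n)) hV.fromSpec) :=
      MorphismProperty.of_isPullback (AffineSpace.isPullback_map hV.fromSpec).flip inferInstance
    let j : Spec P ⟶ 𝔸(ULift.{u} (Fin n); Y) :=
      (AffineSpace.SpecIso (ULift.{u} (Fin n)) Γ(Y, V)).inv ≫ AffineSpace.map _ hV.fromSpec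
    haveI : LocallyQuasiFinite (Spec.map (CommRingCat.ofHom ψ : P ⟶ .of B)) :=
      (HasRingHomProperty.Spec_iff (P := @LocallyQuasiFinite)).2 hqf
    haveI : LocallyOfFiniteType (Spec.map (CommRingCat.ofHom ψ : P ⟶ .of B)) :=
      (HasRingHomProperty.Spec_iff (P := @LocallyOfFiniteType)).2 hft
    let g : Spec (.of B) ⟶ 𝔸(ULift.{u} (Fin n); Y) := Spec.map (CommRingCat.ofHom ψ : P ⟶ .of B) ≫ j
    let h' : Spec (.of B) ⟶ X := Spec.map (CommRingCat.ofHom φ) ≫ hU.fromSpec
    have hfac : g ≫ (𝔸(ULift.{u} (Fin n); Y) ↘ Y) = h' ≫ f := by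
      simp only [g, h', j, Category.assoc, AffineSpace.map_over, AffineSpace.SpecIso_inv_over_assoc]
      rw [← IsAffineOpen.SpecMap_appLE_fromSpec f hV hU e, ← Category.assoc, ← Category.assoc,
        ← Spec.map_comp, ← Spec.map_comp]
      congr 2
      exact CommRingCat.hom_ext hcomp
    have hx : h' q₀ = x := by
      show hU.fromSpec (PrimeSpectrum.comap φ q₀) = x
      rw [hq₀, hU.fromSpec_primeIdealOf]
    haveI : IrreducibleSpace (Spec (CommRingCat.of B)) :=
      inferInstanceAs (IrreducibleSpace (PrimeSpectrum B))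
    let b : ↥(Spec (CommRingCat.of B)) := (⟨⊥, Ideal.isPrime_bot⟩ : PrimeSpectrum B)
    have hgb : IsMaximalPt (g b) := by
      refine Chevalley.isMaximalPt_of_isOpenImmersion j _ ?_
      show (⊥ : Ideal B).comap ψ ∈ _
      rwa [← RingHom.ker_eq_comap_bot]
    haveI : IsDominant g := ⟨fun w => by
      refine closure_mono (Set.singleton_subset_iff.2 (Set.mem_range_self b)) ?_
      rw [show g b = genericPoint _ from (hgb _ (genericPoint_specializes _)).symm]
      exact specializes_iff_mem_closure.1 (genericPoint_specializes w)⟩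
    haveI := universallyOpen_over_affineSpace n Y
    have h1 : EGA43.IsUnivOpenAt (g ≫ (𝔸(ULift.{u} (Fin n); Y) ↘ Y)) q₀ :=
      EGA43.isUnivOpenAt_comp
        (isUnivOpenAt_of_quasiFinite (fun y => EGA43.Unibranch.isGeomUnibranch_stalk_affineSpace n y (hY _)) g q₀)
        (DvrCrit.isUnivOpenAt_of_universallyOpen _ _)
    rw [hfac] at h1
    exact hx ▸ Chevalley.isUnivOpenAt_of_comp h' f q₀ h1
  refine ⟨fun {X' Y'} i₁ i₂ f' hc => ?_⟩
  show IsOpenMap f'.base
  intro U hU
  refine isOpen_iff_mem_nhds.2 ?_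
  rintro _ ⟨x', hx', rfl⟩
  exact EGA43.isOpenAt_of_isPullback (hpt _) hc.flip rfl U (hU.mem_nhds hx')

end Groth.Agent.EGA43.UnibranchOpen
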