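import Groth.Agent.EGA43.Unibranch.Criterion
import Mathlib.RingTheory.IntegralClosure.GoingDown
import Mathlib.RingTheory.Ideal.GoingUp
import Mathlib.RingTheory.Spectrum.Prime.Topology

/-!
# Integral dominant extensions of everywhere unibranch rings have open spectra (EGA IV 14.4.3)

No finiteness hypotheses: over a normal domain the image of a basic open is given by the coefficients of a
minimal polynomial, and the normalization of an everywhere unibranch ring has the same spectrum.
-/

set_option autoImplicit false
set_option backward.isDefEq.respectTransparency false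
set_option linter.style.haveILetI false

universe u

open PrimeSpectrum Polynomial IsLocalRing

namespace Groth.Agent.EGA43.UnibranchOpen

theorem isOpenMap_comap_of_isIntegrallyClosed {R S : Type u} [CommRing R] [IsDomain R] [IsIntegrallyClosed R]
    [CommRing S] [IsDomain S] [Algebra R S] [FaithfulSMul R S] [Algebra.IsIntegral R S] :
    IsOpenMap (PrimeSpectrum.comap (algebraMap R S)) := by
  rw [PrimeSpectrum.isBasis_basic_opens.isOpenMap_iff]
  rintro _ ⟨_, ⟨c, rfl⟩, rfl⟩
  have hc : IsIntegral R c := Algebra.IsIntegral.isIntegral c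
  let g := minpoly R c
  have key : PrimeSpectrum.comap (algebraMap R S) '' (basicOpen c : Set (PrimeSpectrum S)) =
      ⋃ i : {i : ℕ // i ≠ g.natDegree}, (basicOpen (g.coeff i) : Set (PrimeSpectrum R)) := by
    ext p
    simp only [Set.mem_image, Set.mem_iUnion, SetLike.mem_coe, mem_basicOpen]
    constructor
    · rintro ⟨Q, hQ, rfl⟩
      by_contra! H
      have hg : g.map (Ideal.Quotient.mk (PrimeSpectrum.comap (algebraMap R S) Q).asIdeal) = X ^ g.natDegree := by
        ext i
        obtain hi | rfl | hi := lt_trichotomy i g.natDegree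
        · simpa [hi.ne, Ideal.Quotient.eq_zero_iff_mem] using H ⟨i, hi.ne⟩
        · simp [g, minpoly.monic hc]
        · simp [coeff_eq_zero_of_natDegree_lt hi, hi.ne']
      have h0 : Ideal.Quotient.mk Q.asIdeal (c ^ g.natDegree) = 0 := by
        have h1 : (g.map (Ideal.Quotient.mk (PrimeSpectrum.comap (algebraMap R S) Q).asIdeal)).eval₂
            (Ideal.quotientMap Q.asIdeal (algebraMap R S) le_rfl) (Ideal.Quotient.mk Q.asIdeal c) = 0 := by
          rw [eval₂_map]; erw [Ideal.quotientMap_comp_mk]; rw [← hom_eval₂, ← aeval_def, minpoly.aeval, map_zero]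
        rw [hg, eval₂_X_pow, ← map_pow] at h1
        exact h1
      exact hQ (Q.isPrime.mem_of_pow_mem _ (Ideal.Quotient.eq_zero_iff_mem.1 h0))
    · rintro ⟨i, hi⟩
      by_contra! H
      have hrad : c ∈ (p.asIdeal.map (algebraMap R S)).radical := by
        rw [Ideal.radical_eq_sInf, Ideal.mem_sInf]
        rintro P ⟨hP, hPp⟩
        haveI := hPp
        have hle : p.asIdeal ≤ P.under R := Ideal.map_le_iff_le_comap.1 hP
        haveI : P.LiesOver (P.under R) := ⟨rfl⟩
        obtain ⟨P', hle', hP', hov⟩ := Ideal.exists_ideal_le_liesOver_of_le P hle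
        by_contra hcP
        exact H ⟨P', hP'⟩ (fun h => hcP (hle' h)) (PrimeSpectrum.ext hov.over.symm)
      obtain ⟨m, hm⟩ := hrad
      obtain ⟨f, hfm, hfa, hf⟩ := exists_monic_aeval_eq_zero_forall_mem_of_mem_map (show c ^ (m + 1) ∈ p.asIdeal.map (algebraMap R S) from pow_succ c m ▸ Ideal.mul_mem_right _ _ hm)
      have hfm' : (expand R (m + 1) f).Monic := hfm.expand (Nat.succ_pos m)
      have hdvd : g ∣ expand R (m + 1) f :=
        minpoly.isIntegrallyClosed_dvd hc (by rw [expand_aeval]; exact hfa)
      have hmem := coeff_mem_radical_span_coeff_of_dvd _ _ hfm' (minpoly.monic hc) hdvd i.1 i.2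
      refine hi (p.isPrime.radical.le (Ideal.radical_mono (Ideal.span_le.2 ?_) hmem))
      rintro _ ⟨j, hj, rfl⟩
      rw [natDegree_expand] at hj
      show _ ∈ p.asIdeal
      rw [coeff_expand (Nat.succ_pos m)]
      split_ifs with h
      · exact hf _ (ne_of_lt (Nat.div_lt_of_lt_mul (by rw [mul_comm]; exact hj)))
      · exact zero_mem _
  rw [key]
  exact isOpen_iUnion fun i => (basicOpen _).isOpen

theorem injective_comap_of_unibranch {A R' : Type u} [CommRing A] [CommRing R'] [IsDomain R'] [IsIntegrallyClosed R'] [Algebra A R']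
    [Algebra.IsIntegral A R'] (hker : RingHom.ker (algebraMap A R') = nilradical A)
    (hbir : ∀ z : R', ∃ u ∉ nilradical A, ∃ a : A, algebraMap A R' u * z = algebraMap A R' a)
    (hu : ∀ p : PrimeSpectrum A, CAlg2.IsGeomUnibranch (Localization.AtPrime p.asIdeal)) :
    Function.Injective (PrimeSpectrum.comap (algebraMap A R')) := by
  intro P₁ P₂ hP
  let p := PrimeSpectrum.comap (algebraMap A R') P₂
  obtain ⟨C, _, _, _, _, _, _, hkerC, hbirC, -⟩ := EGA43.Unibranch.exists_normalization (hu p)
  letI : Algebra A C := ((algebraMap (Localization.AtPrime p.asIdeal) C).comp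
    (algebraMap A (Localization.AtPrime p.asIdeal))).toAlgebra
  haveI : IsScalarTower A (Localization.AtPrime p.asIdeal) C := .of_algebraMap_eq fun _ => rfl
  have hAC : ∀ a, algebraMap A C a =
      algebraMap (Localization.AtPrime p.asIdeal) C (algebraMap A _ a) := fun _ => rfl
  have hkC : ∀ a : A, algebraMap A C a = 0 ↔ a ∈ nilradical A := fun a => by
    refine ⟨fun h => ?_, fun h => ((mem_nilradical.1 h).map (algebraMap A C)).eq_zero⟩
    have h' : algebraMap A (Localization.AtPrime p.asIdeal) a ∈ nilradical _ := hkerC.le h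
    obtain ⟨n, hn⟩ := mem_nilradical.1 h'
    rw [← map_pow, IsLocalization.map_eq_zero_iff p.asIdeal.primeCompl] at hn
    obtain ⟨⟨s, hs⟩, hs0⟩ := hn
    have h1 : algebraMap A R' s * algebraMap A R' a ^ n = 0 := by rw [← map_pow, ← map_mul, hs0, map_zero]
    have h2 : algebraMap A R' s ≠ 0 := fun h => hs (show algebraMap A R' s ∈ P₂.asIdeal by rw [h]; exact zero_mem _)
    exact hker.le (eq_zero_of_pow_eq_zero ((mul_eq_zero.1 h1).resolve_left h2))
  let N := nilradical A
  let R := A ⧸ N
  letI : Algebra R R' := (Ideal.Quotient.lift N (algebraMap A R') fun a ha => RingHom.mem_ker.1 (hker.ge ha)).toAlgebra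
  have hR : ∀ a, algebraMap R R' (Ideal.Quotient.mk N a) = algebraMap A R' a := fun a => rfl
  have hinj : Function.Injective (algebraMap R R') := Ideal.injective_lift_iff _ |>.2 hker
  haveI : IsDomain R := hinj.isDomain _
  let K := FractionRing R'
  let K' := FractionRing C
  haveI : FaithfulSMul R K := (faithfulSMul_iff_algebraMap_injective R K).2
    ((IsFractionRing.injective R' K).comp hinj)
  haveI : IsFractionRing R K := by
    refine IsFractionRing.of_field R K fun z => ?_
    obtain ⟨c, d, hd, rfl⟩ := IsFractionRing.div_surjective (A := R') z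
    obtain ⟨s, hs, a, ha⟩ := hbir c
    obtain ⟨t, ht, b, hb⟩ := hbir d
    have hne : ∀ x ∉ N, algebraMap R' K (algebraMap A R' x) ≠ 0 := fun x hx =>
      (map_ne_zero_iff _ (IsFractionRing.injective R' K)).2 fun h => hx (hker.le h)
    have hd0 : algebraMap R' K d ≠ 0 := IsFractionRing.to_map_ne_zero_of_mem_nonZeroDivisors hd
    refine ⟨Ideal.Quotient.mk N (a * t), Ideal.Quotient.mk N (s * b), ?_⟩
    show algebraMap R' K c / _ = algebraMap R' K (algebraMap A R' (a * t)) / algebraMap R' K (algebraMap A R' (s * b))
    rw [map_mul (algebraMap A R'), map_mul (algebraMap A R'), ← ha, ← hb, map_mul, map_mul, map_mul, map_mul,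
      div_eq_div_iff hd0 (mul_ne_zero (hne s hs) (mul_ne_zero (hne t ht) hd0))]
    ring
  let ρ : R →+* K' := (algebraMap C K').comp
    (Ideal.Quotient.lift N (algebraMap A C) fun a ha => (hkC a).2 ha)
  have hρ : Function.Injective ρ := (IsFractionRing.injective C K').comp
    ((Ideal.injective_lift_iff (fun a ha => (hkC a).2 ha)).2 (le_antisymm (fun a h => (hkC a).1 h) fun a h => (hkC a).2 h))
  let φ : K →+* K' := IsFractionRing.lift hρ
  have hφ : ∀ a, φ (algebraMap R' K (algebraMap A R' a)) = algebraMap C K' (algebraMap A C a) := fun a =>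
    IsFractionRing.lift_algebraMap hρ (Ideal.Quotient.mk N a)
  have hφA : φ.comp (algebraMap A K) = (algebraMap C K').comp (algebraMap A C) := RingHom.ext fun a => by
    show φ (algebraMap A K a) = _
    rw [IsScalarTower.algebraMap_apply A R' K]; exact hφ a
  have hCint : ∀ z : R', ∃ c, algebraMap C K' c = φ (algebraMap R' K z) := fun z => by
    refine IsIntegrallyClosed.isIntegral_iff.1 ?_
    obtain ⟨f, hfm, hfz⟩ := (Algebra.IsIntegral.isIntegral (R := A) z).map (IsScalarTower.toAlgHom A R' K)
    refine ⟨f.map (algebraMap A C), hfm.map _, ?_⟩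
    rw [eval₂_map, ← hφA, ← hom_eval₂]
    exact (congrArg φ hfz).trans (map_zero φ)
  choose g₀ hg using hCint
  have hinjC := IsFractionRing.injective C K'
  let g : R' →+* C :=
    { toFun := g₀
      map_one' := hinjC (by rw [hg, map_one, map_one, map_one])
      map_zero' := hinjC (by rw [hg, map_zero, map_zero, map_zero])
      map_mul' := fun x y => hinjC (by rw [hg, map_mul, map_mul, map_mul, hg, hg])
      map_add' := fun x y => hinjC (by rw [hg, map_add, map_add, map_add, hg, hg]) }
  have hgA : ∀ a, g (algebraMap A R' a) = algebraMap A C a := fun a => hinjC ((hg _).trans (hφ a))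
  have key : ∀ P : PrimeSpectrum R', PrimeSpectrum.comap (algebraMap A R') P = p →
      P.asIdeal = (maximalIdeal C).comap g := by
    intro P hPp
    have hle : P.asIdeal ≤ (maximalIdeal C).comap g := fun z hz => by
      rw [Ideal.mem_comap, mem_maximalIdeal, mem_nonunits_iff]
      intro hunit
      obtain ⟨c, hc⟩ := hunit.exists_right_inv
      obtain ⟨⟨s, hs⟩, hsc⟩ := IsIntegral.exists_multiple_integral_of_isLocalization p.asIdeal.primeCompl c
        (Algebra.IsIntegral.isIntegral (R := Localization.AtPrime p.asIdeal) c)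
      obtain ⟨u, hu0, a, hua⟩ := hbirC c
      obtain ⟨⟨a', t⟩, hat⟩ := IsLocalization.surj p.asIdeal.primeCompl a
      obtain ⟨⟨u', t'⟩, hut⟩ := IsLocalization.surj p.asIdeal.primeCompl u
      have hne : algebraMap A C (u' * t) ≠ 0 := by
        rw [map_mul, hAC, hAC, ← hut, map_mul]
        refine mul_ne_zero (mul_ne_zero (fun h => hu0 (hkerC.le h)) ?_) ?_ <;>
          exact ((IsLocalization.map_units (Localization.AtPrime p.asIdeal) _).map (algebraMap _ C)).ne_zero
      have hrel : algebraMap A C (u' * t) * c = algebraMap A C (a' * t') := by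
        rw [map_mul, map_mul, hAC, hAC, hAC, hAC, ← hut, ← hat, map_mul, map_mul, ← hua]; ring
      let w : K := algebraMap R' K (algebraMap A R' (s * (a' * t'))) / algebraMap R' K (algebraMap A R' (u' * t))
      have hw : φ w = algebraMap C K' (algebraMap A C s * c) := by
        rw [map_div₀, hφ, hφ, div_eq_iff ((map_ne_zero_iff _ hinjC).2 hne), ← map_mul,
          map_mul (algebraMap A C) s, ← hrel]
        congr 1; ring
      obtain ⟨w', hw'⟩ : ∃ w', algebraMap R' K w' = w := by
        refine IsIntegrallyClosed.isIntegral_iff.1 (IsIntegral.tower_top (R := A) ?_)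
        obtain ⟨f, hfm, hf⟩ := hsc
        refine ⟨f, hfm, φ.injective ?_⟩
        rw [hom_eval₂, map_zero, hw, hφA, ← hom_eval₂,
          show algebraMap A C s * c = s • c from (Algebra.smul_def s c).symm]
        exact (congrArg (algebraMap C K') hf).trans (map_zero _)
      have hzw : z * w' = algebraMap A R' s := by
        refine IsFractionRing.injective R' K (φ.injective ?_)
        rw [map_mul, map_mul, hw', ← hg, hw, hφ, ← map_mul, mul_left_comm,
          show g₀ z * c = 1 from hc, mul_one]
      refine hs ?_
      rw [← hPp]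
      show algebraMap A R' s ∈ P.asIdeal
      rw [← hzw]
      exact P.asIdeal.mul_mem_right _ hz
    by_contra hne
    obtain ⟨z, hz, hzP⟩ := SetLike.exists_of_lt (lt_of_le_of_ne hle hne)
    have hlt := Ideal.comap_lt_comap_of_integral_mem_sdiff (R := A) hle ⟨hz, hzP⟩
      (Algebra.IsIntegral.isIntegral z)
    refine hlt.ne ?_
    rw [show P.asIdeal.comap (algebraMap A R') = p.asIdeal from congrArg PrimeSpectrum.asIdeal hPp,
      Ideal.comap_comap, show g.comp (algebraMap A R') = algebraMap A C from RingHom.ext hgA,
      show algebraMap A C = (algebraMap (Localization.AtPrime p.asIdeal) C).comp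
        (algebraMap A (Localization.AtPrime p.asIdeal)) from rfl, ← Ideal.comap_comap,
      IsLocalRing.eq_maximalIdeal (Ideal.isMaximal_comap_of_isIntegral_of_isMaximal (maximalIdeal C))]
    exact Localization.AtPrime.under_maximalIdeal.symm
  exact PrimeSpectrum.ext ((key P₁ hP).trans (key P₂ rfl).symm)

/-- Integral dominant extensions without zero divisors of an everywhere geometrically unibranch ring have open
spectrum maps. -/
theorem isOpenMap_comap_of_unibranch {A B : Type u} [CommRing A] [CommRing B] [IsDomain B] [Algebra A B]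
    [Algebra.IsIntegral A B] (hker : RingHom.ker (algebraMap A B) = nilradical A)
    (hu : ∀ p : PrimeSpectrum A, CAlg2.IsGeomUnibranch (Localization.AtPrime p.asIdeal)) :
    IsOpenMap (PrimeSpectrum.comap (algebraMap A B)) := by
  let R := CAlg2.red A
  letI : Algebra R B := (Ideal.Quotient.lift (nilradical A) (algebraMap A B)
    fun a ha => RingHom.mem_ker.1 (hker.ge ha)).toAlgebra
  haveI : IsScalarTower A R B := .of_algebraMap_eq fun a => (Ideal.Quotient.lift_mk _ _ _).symm
  have hκ : Function.Injective (algebraMap R B) := Ideal.injective_lift_iff _ |>.2 hker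
  haveI : IsDomain R := hκ.isDomain _
  haveI : Algebra.IsIntegral R B := Algebra.IsIntegral.tower_top A
  let L := FractionRing B
  have hRL : Function.Injective (algebraMap R L) := by
    rw [IsScalarTower.algebraMap_eq R B L]
    exact (IsFractionRing.injective B L).comp hκ
  haveI : FaithfulSMul R L := (faithfulSMul_iff_algebraMap_injective R L).2 hRL
  let _ : Algebra (FractionRing R) L := FractionRing.liftAlgebra R L
  let R' := CAlg2.normRed A
  haveI : IsIntegrallyClosed R' := integralClosure.isIntegrallyClosedOfFiniteExtension (FractionRing R)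
  haveI : Algebra.IsIntegral A R' := Algebra.IsIntegral.trans R
  have hRR : Function.Injective (algebraMap R R') := fun a b h =>
    IsFractionRing.injective R (FractionRing R) (congrArg Subtype.val h)
  have hk' : RingHom.ker (algebraMap A R') = nilradical A := by
    ext a
    rw [RingHom.mem_ker, IsScalarTower.algebraMap_apply A R R', map_eq_zero_iff _ hRR]
    exact Ideal.Quotient.eq_zero_iff_mem
  have hbir : ∀ z : R', ∃ u ∉ nilradical A, ∃ a : A, algebraMap A R' u * z = algebraMap A R' a := fun z => by
    obtain ⟨x, y, hy, hc⟩ := IsFractionRing.div_surjective (A := R) z.1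
    obtain ⟨s, rfl⟩ := Ideal.Quotient.mk_surjective y
    obtain ⟨a, rfl⟩ := Ideal.Quotient.mk_surjective x
    refine ⟨s, fun h => nonZeroDivisors.ne_zero hy (Ideal.Quotient.eq_zero_iff_mem.2 h), a, Subtype.ext ?_⟩
    show algebraMap R (FractionRing R) (Ideal.Quotient.mk _ s) * z.1 =
      algebraMap R (FractionRing R) (Ideal.Quotient.mk _ a)
    rw [← hc, mul_div_cancel₀ _ (IsFractionRing.to_map_ne_zero_of_mem_nonZeroDivisors hy)]
  let C := integralClosure R L
  let _ : Algebra B C := ((algebraMap B L).codRestrict C.toSubring fun b =>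
    (Algebra.IsIntegral.isIntegral (R := R) b).map (IsScalarTower.toAlgHom R B L)).toAlgebra
  haveI : IsScalarTower R B C := .of_algebraMap_eq fun r =>
    Subtype.ext (IsScalarTower.algebraMap_apply R B L r)
  let ι : FractionRing R →ₐ[R] L := IsScalarTower.toAlgHom R (FractionRing R) L
  let _ : Algebra R' C := ((ι.comp (integralClosure R (FractionRing R)).val).codRestrict C fun a =>
    (a.2 : IsIntegral R (a : FractionRing R)).map ι).toRingHom.toAlgebra
  haveI : IsScalarTower R R' C := .of_algebraMap_eq fun r => Subtype.ext (ι.commutes r).symm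
  haveI : Algebra.IsIntegral R' C := Algebra.IsIntegral.tower_top R
  haveI : Algebra.IsIntegral B C := Algebra.IsIntegral.tower_top R
  haveI : FaithfulSMul R' C := (faithfulSMul_iff_algebraMap_injective R' C).2 fun a b h =>
    Subtype.ext (ι.toRingHom.injective (congrArg Subtype.val h))
  have hBC : Function.Injective (algebraMap B C) := fun a b h =>
    IsFractionRing.injective B L (congrArg Subtype.val h)
  have hsurjB : Function.Surjective (PrimeSpectrum.comap (algebraMap B C)) :=
    RingHom.IsIntegral.comap_surjective (algebraMap_isIntegral_iff.2 inferInstance) hBC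
  have hclosed : IsClosedMap (PrimeSpectrum.comap (algebraMap A R')) :=
    PrimeSpectrum.isClosedMap_comap_of_isIntegral _ (algebraMap_isIntegral_iff.2 inferInstance)
  have hsurj : Function.Surjective (PrimeSpectrum.comap (algebraMap A R')) := fun p => by
    obtain ⟨Q, -, hQ, hQc⟩ := Ideal.exists_ideal_over_prime_of_isIntegral p.asIdeal (⊥ : Ideal R')
      (by rw [← RingHom.ker_eq_comap_bot, hk']; exact nilradical_le_prime _)
    exact ⟨⟨Q, hQ⟩, PrimeSpectrum.ext hQc⟩
  have hhomeo : IsHomeomorph (PrimeSpectrum.comap (algebraMap A R')) :=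
    isHomeomorph_iff_continuous_isClosedMap_bijective.2
      ⟨PrimeSpectrum.continuous_comap _, hclosed, injective_comap_of_unibranch hk' hbir hu, hsurj⟩
  have hcomp : PrimeSpectrum.comap (algebraMap A B) ∘ PrimeSpectrum.comap (algebraMap B C) =
      PrimeSpectrum.comap (algebraMap A R') ∘ PrimeSpectrum.comap (algebraMap R' C) := by
    funext Q
    simp only [Function.comp_apply, ← PrimeSpectrum.comap_comp_apply]
    rw [IsScalarTower.algebraMap_eq A R B, IsScalarTower.algebraMap_eq A R R', ← RingHom.comp_assoc,
      ← RingHom.comp_assoc, ← IsScalarTower.algebraMap_eq R B C, ← IsScalarTower.algebraMap_eq R R' C]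
  intro U hU
  rw [← Set.image_preimage_eq U hsurjB, ← Set.image_comp, hcomp, Set.image_comp]
  exact hhomeo.isOpenMap _ (isOpenMap_comap_of_isIntegrallyClosed _ (hU.preimage (PrimeSpectrum.continuous_comap _)))

end Groth.Agent.EGA43.UnibranchOpen
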